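import Cfsg.Agent.H365.SporRow
import Cfsg.Agent.H427.CsHyp
import Cfsg.Agent.H537.CopDefs

/-!
# S3677: groups with the order and the class sizes of a group with a self-centralizing element of prime order

`noEdge_of_sc` : `|G| = |S|`, the same class sizes, the elements of order `p` of `S` have centralizers of order `p`:
`G` has no element of order `p t`, `t ≠ p`.
`row` : then the numerical check of helper365 shows that `G ≅ S` for `S` of sporadic order.
-/

set_option autoImplicit false
set_option maxRecDepth 100000

namespace Cfsg.Agent.H805.Cs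

open Subgroup Cfsg Cfsg.Agent.OrdDiv Cfsg.Agent.H364 Cfsg.Agent.H365.SporCheck Cfsg.Agent.H427.Cs
open Cfsg.Agent.H537.Cop (SC)

universe u v

/-- the class sizes agree -/
def SameCs (G : Type u) (S : Type v) [Group G] [Group S] : Prop :=
  Set.range (fun g : G => (centralizer ({g} : Set G)).index) = Set.range (fun g : S => (centralizer ({g} : Set S)).index)

theorem SameCs.symm {G : Type u} {S : Type v} [Group G] [Group S] (h : SameCs G S) : SameCs S G := Eq.symm h

/-- two commuting elements, one of order `p` with `|C| = p` -/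
theorem eq_one_or_card {S : Type v} [Group S] [Finite S] {p : ℕ} (hp : p.Prime) (hsc : SC p S) {s : S}
    (h : p ∣ Nat.card (centralizer ({s} : Set S))) : s = 1 ∨ Nat.card (centralizer ({s} : Set S)) = p := by
  have hf : Fact p.Prime := ⟨hp⟩
  obtain ⟨x, hx⟩ := exists_prime_orderOf_dvd_card' p h
  have hx' : orderOf (x : S) = p := by rw [Subgroup.orderOf_coe, hx]
  have hxs : (x : S) * s = s * x := mem_centralizer_singleton_iff.1 x.2
  have hs : s ∈ centralizer ({(x : S)} : Set S) := mem_centralizer_singleton_iff.2 hxs.symm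
  have hd : orderOf s ∣ p := by
    have := Subgroup.orderOf_dvd_natCard _ hs
    rwa [hsc _ hx'] at this
  rcases (Nat.dvd_prime hp).1 hd with h1 | h1
  · exact Or.inl (orderOf_eq_one_iff.1 h1)
  · exact Or.inr (hsc s h1)

theorem noEdge_of_sc {G : Type u} {S : Type v} [Group G] [Group S] [Finite G] [Finite S]
    (hcard : Nat.card G = Nat.card S) (hcs : SameCs G S) {p q : ℕ} (hp : p.Prime) (hq : q.Prime) (hqp : q ≠ p)
    (hd : q ∣ Nat.card S) (hsc : SC p S) {t : ℕ} (ht : t.Prime) (htp : t ≠ p) : NoEdge G p t := by
  intro g hg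
  -- the element of order `p`
  have hgp : orderOf (g ^ t) = p := by
    rw [orderOf_pow_of_dvd ht.ne_zero (by rw [hg]; exact dvd_mul_left t p), hg, Nat.mul_div_cancel _ ht.pos]
  obtain ⟨s, hs⟩ := exists_of_range hcard hcs g
  have hgc : p * t ∣ cc g := by
    rw [← hg]
    exact Subgroup.orderOf_dvd_natCard _ (mem_centralizer_singleton_iff.2 rfl)
  have hps : p ∣ cc s := hs ▸ (dvd_mul_right p t).trans hgc
  have hts : t ∣ cc s := hs ▸ (dvd_mul_left t p).trans hgc
  rcases eq_one_or_card hp hsc hps with h1 | h1
  · -- `g` is central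
    subst h1
    have h2 : centralizer ({(1 : S)} : Set S) = ⊤ := by
      rw [eq_top_iff]
      intro x _
      rw [mem_centralizer_singleton_iff, mul_one, one_mul]
    have h3 : cc g = Nat.card G := by
      rw [hs, hcard]
      show Nat.card (centralizer ({(1 : S)} : Set S)) = _
      rw [h2, card_top]
    have h4 : centralizer ({g} : Set G) = ⊤ := Subgroup.eq_top_of_card_eq _ h3
    -- an element with centralizer of order prime to `p`
    have hf : Fact q.Prime := ⟨hq⟩
    obtain ⟨y, hy⟩ := exists_prime_orderOf_dvd_card' q hd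
    have hy' : ¬ p ∣ cc y := by
      intro h
      rcases eq_one_or_card hp hsc h with h5 | h5
      · rw [h5, orderOf_one] at hy
        exact hq.one_lt.ne hy
      · have h6 : q ∣ Nat.card (centralizer ({y} : Set S)) := by
          have := Subgroup.orderOf_dvd_natCard (centralizer ({y} : Set S)) (mem_centralizer_singleton_iff.2 rfl : y ∈ _)
          rwa [hy] at this
        rw [h5] at h6
        exact hqp ((Nat.prime_dvd_prime_iff_eq hq hp).1 h6)
    obtain ⟨z, hz⟩ := exists_of_range hcard.symm hcs.symm y
    apply hy'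
    rw [hz]
    have h5 : g ^ t ∈ centralizer ({z} : Set G) := by
      have h6 : z ∈ centralizer ({g} : Set G) := h4 ▸ mem_top z
      have h7 : Commute g z := (mem_centralizer_singleton_iff.1 h6).symm
      rw [mem_centralizer_singleton_iff]
      exact (h7.pow_left t).eq
    have := Subgroup.orderOf_dvd_natCard _ h5
    rwa [hgp] at this
  · have h2 : t ∣ p := by
      have h3 : cc s = p := h1
      rwa [h3] at hts
    exact htp ((Nat.prime_dvd_prime_iff_eq ht hp).1 h2)

/-- a group with the order of a sporadic group and some non-adjacent primes is the sporadic group -/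
theorem row_of (T : OrderTable.{u}) (hknown : ∀ (S : Type u) [Group S] [Finite S] [IsSimpleGroup S], IsKnownSimple' S)
    {G : Type u} [Group G] [Finite G] {S : Type v} [Group S] [Finite S] (g : Grp) {n p : ℕ} {ts : List ℕ}
    {l : List (ℕ × ℕ)} (hchk : chk l n p ts = true) (hp : p.Prime) (hg : (g, n, l) ∈ H403.sporFac)
    (hS : OrdDiv.Real g S) (hc : Nat.card S = n) (hcard : Nat.card G = Nat.card S)
    (hts : ∀ t ∈ ts, t.Prime ∧ t ≠ p ∧ NoEdge G p t) : Nonempty (G ≃* S) := by
  obtain ⟨hs, hna⟩ := main T hknown (hcard.trans hc) hp hts hchk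
  have h1 : OrdDiv.Real g G := H403.real_of_card T (hknown G) hna hg (hcard.trans hc)
  exact H902.Iso.real_unique g h1 hS

/-- **Rows with a self-centralizing element of prime order.** -/
theorem row (T : OrderTable.{u}) (hknown : ∀ (S : Type u) [Group S] [Finite S] [IsSimpleGroup S], IsKnownSimple' S)
    {G : Type u} [Group G] [Finite G] {S : Type v} [Group S] [Finite S] (hcard : Nat.card G = Nat.card S)
    (hcs : SameCs G S) (g : Grp) {n p : ℕ} {l : List (ℕ × ℕ)} (hchk : chk l n p [2] = true) (hp : p.Prime)
    (hp2 : 2 ≠ p) (h2 : 2 ∣ n) (hg : (g, n, l) ∈ H403.sporFac) (hS : OrdDiv.Real g S) (hc : Nat.card S = n)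
    (hsc : SC p S) : Nonempty (G ≃* S) := by
  refine row_of T hknown g hchk hp hg hS hc hcard fun t ht => ?_
  rw [List.mem_singleton] at ht
  subst ht
  exact ⟨Nat.prime_two, hp2, noEdge_of_sc hcard hcs hp Nat.prime_two hp2 (by rw [hc]; exact h2) hsc
    Nat.prime_two hp2⟩

end Cfsg.Agent.H805.Cs
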