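import Cfsg.Agent.H805.Cs.Base
import Cfsg.Agent.H537.CopSC
import Cfsg.Agent.H537.CopRowsA
import Cfsg.Agent.H537.CopRowsB
import Cfsg.Agent.H537.CopRowsC
import Cfsg.Agent.H537.CopHeEl
import Cfsg.Agent.H537.CopSuzEl
import Cfsg.Agent.H647.SpF.HSMcL
import Cfsg.Agent.H94.CopHN
import Cfsg.Agent.H981.SCTh
import Cfsg.Agent.H58.Cop.MSc
import Cfsg.Agent.H149.Sp.Engine
import Cfsg.Agent.J2Type.ThreeF
import Cfsg.Agent.KFacts.J2.Facts

/-!
# S3677 for the sporadic groups and the Tits group (helper805)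

A group with the order and the class sizes of a sporadic group (or the Tits group) is that group.
-/

set_option autoImplicit false
set_option maxRecDepth 100000

namespace Cfsg.Agent.H805.Cs

open Subgroup Cfsg Cfsg.Agent.OrdDiv Cfsg.Agent.H364 Cfsg.Agent.H365.SporCheck
open Cfsg.Agent.H537.Cop

universe u v

/-- `J₂`: elements of order 7 -/
theorem j2_seven {S : Type u} [Group S] [Finite S] (h : Spor.IsoJ2 S) : SC 7 S := by
  have hc := NotCT.Orders.j2 h
  obtain ⟨t, w, Q, v, ρ, D⟩ := Cfsg.Agent.KFacts.J2.Facts.exists_dat_of h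
  have hf : Fact (Nat.Prime 7) := ⟨by norm_num⟩
  intro x hx
  obtain ⟨P, hP⟩ := H149.Sp.Eng.exists_sylow (s := 7) (by norm_num) (by rw [hc]; norm_num) hx
  have h1 := (Cfsg.Agent.J2Type.ThreeF.sylow_seven D.F P).1
  have h2 : centralizer ({x} : Set S) = zpowers x := by
    rw [← hP, ← h1, hP]
    rw [zpowers_eq_closure, centralizer_closure]
  rw [h2, Nat.card_zpowers, hx]

theorem chk_j4 : chk [(2,21),(3,3),(5,1),(7,1),(11,3),(23,1),(29,1),(31,1),(37,1),(43,1)] 86775571046077562880 43 [2]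
    = true := by decide +kernel

theorem chk_m : chk [(2,46),(3,20),(5,9),(7,6),(11,2),(13,3),(17,1),(19,1),(23,1),(29,1),(31,1),(41,1),(47,1),(59,1),(71,1)]
    808017424794512875886459904961710757005754368000000000 59 [2] = true := by decide +kernel

section

variable (T : OrderTable.{u}) (hknown : ∀ (S : Type u) [Group S] [Finite S] [IsSimpleGroup S], IsKnownSimple' S)
  {G : Type u} [Group G] [Finite G] {S : Type v} [Group S] [Finite S]
  (hcard : Nat.card G = Nat.card S) (hcs : SameCs G S)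

include T hknown hcard hcs

theorem run (g : Grp) {n p : ℕ} {ts : List ℕ} {l : List (ℕ × ℕ)} (hx : (n, p, ts, l) ∈ rows) (hts : ∀ t ∈ ts, t ∣ n)
    (h2 : 2 ∈ ts ∨ 5 ∈ ts) (hg : (g, n, l) ∈ H403.sporFac) (hS : OrdDiv.Real g S) (hc : Nat.card S = n)
    (hsc : SC p S) : Nonempty (G ≃* S) := by
  obtain ⟨hp, htp⟩ := rows_prime _ hx
  have hne : ∃ q : ℕ, q.Prime ∧ q ≠ p ∧ q ∣ n := by
    rcases h2 with h2 | h2
    · exact ⟨2, (htp 2 h2).1, (htp 2 h2).2, hts 2 h2⟩
    · exact ⟨5, (htp 5 h2).1, (htp 5 h2).2, hts 5 h2⟩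
  obtain ⟨q, hq, hqp, hqn⟩ := hne
  refine row_of T hknown g (List.all_eq_true.1 rows_chk _ hx) hp hg hS hc hcard fun t ht => ?_
  exact ⟨(htp t ht).1, (htp t ht).2, noEdge_of_sc hcard hcs hp hq hqp (by rw [hc]; exact hqn) hsc (htp t ht).1
    (htp t ht).2⟩

theorem tits (h : Lie.IsoTits S) : Nonempty (G ≃* S) :=
  run T hknown hcard hcs .tits (n := 17971200) (p := 13) (ts := [2]) (l := [(2,11),(3,3),(5,2),(13,1)]) (by decide)
    (by decide) (by decide) (by decide) h (NotCT.Orders.tits h) (tits_13 h)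

theorem m11 (h : Spor.IsoM11 S) : Nonempty (G ≃* S) :=
  run T hknown hcard hcs .m11 (n := 7920) (p := 11) (ts := [2])
    (l := [(2,4),(3,2),(5,1),(11,1)]) (by decide) (by decide) (by decide) (by decide) h (NotCT.Orders.m11 h) (m11_11 h)

theorem m12 (h : Spor.IsoM12 S) : Nonempty (G ≃* S) :=
  run T hknown hcard hcs .m12 (n := 95040) (p := 11) (ts := [2])
    (l := [(2,6),(3,3),(5,1),(11,1)]) (by decide) (by decide) (by decide) (by decide) h (NotCT.Orders.m12 h) (m12_11 h)

theorem m22 (h : Spor.IsoM22 S) : Nonempty (G ≃* S) :=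
  run T hknown hcard hcs .m22 (n := 443520) (p := 11) (ts := [2])
    (l := [(2,7),(3,2),(5,1),(7,1),(11,1)]) (by decide) (by decide) (by decide) (by decide) h (NotCT.Orders.m22 h)
    (m22_11 h)

theorem m23 (h : Spor.IsoM23 S) : Nonempty (G ≃* S) :=
  run T hknown hcard hcs .m23 (n := 10200960) (p := 23) (ts := [2])
    (l := [(2,7),(3,2),(5,1),(7,1),(11,1),(23,1)]) (by decide) (by decide) (by decide) (by decide) h
    (NotCT.Orders.m23 h) (m23_23 h)

theorem m24 (h : Spor.IsoM24 S) : Nonempty (G ≃* S) :=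
  run T hknown hcard hcs .m24 (n := 244823040) (p := 23) (ts := [2])
    (l := [(2,10),(3,3),(5,1),(7,1),(11,1),(23,1)]) (by decide) (by decide) (by decide) (by decide) h
    (NotCT.Orders.m24 h) (m24_23 h)

theorem j1 (h : Spor.IsoJ1 S) : Nonempty (G ≃* S) :=
  run T hknown hcard hcs .j1 (n := 175560) (p := 19) (ts := [2])
    (l := [(2,3),(3,1),(5,1),(7,1),(11,1),(19,1)]) (by decide) (by decide) (by decide) (by decide) h
    (NotCT.Orders.j1 h) (j1_19 h)

theorem j2 (h : Spor.IsoJ2 S) : Nonempty (G ≃* S) :=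
  run T hknown hcard hcs .j2 (n := 604800) (p := 7) (ts := [5]) (l := [(2,7),(3,3),(5,2),(7,1)]) (by decide)
    (by decide) (by decide) (by decide) h (NotCT.Orders.j2 h) (j2_seven h)

theorem j3 (h : Spor.IsoJ3 S) : Nonempty (G ≃* S) :=
  run T hknown hcard hcs .j3 (n := 50232960) (p := 19) (ts := [2])
    (l := [(2,7),(3,5),(5,1),(17,1),(19,1)]) (by decide) (by decide) (by decide) (by decide) h (NotCT.Orders.j3 h)
    (j3_19 h)

theorem j4 (h : Spor.IsoJ4 S) : Nonempty (G ≃* S) :=
  row T hknown hcard hcs .j4 chk_j4 (by norm_num) (by norm_num) (by norm_num) (by decide) h (NotCT.Orders.j4 h)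
    (j4_43 h)

theorem co1 (h : Spor.IsoCo1 S) : Nonempty (G ≃* S) :=
  run T hknown hcard hcs .co1 (n := 4157776806543360000) (p := 23) (ts := [2, 7])
    (l := [(2,21),(3,9),(5,4),(7,2),(11,1),(13,1),(23,1)]) (by decide) (by decide) (by decide) (by decide) h
    (NotCT.Orders.co1 h) (co1_23 h)

theorem co2 (h : Spor.IsoCo2 S) : Nonempty (G ≃* S) :=
  run T hknown hcard hcs .co2 (n := 42305421312000) (p := 23) (ts := [2, 5])
    (l := [(2,18),(3,6),(5,3),(7,1),(11,1),(23,1)]) (by decide) (by decide) (by decide) (by decide) h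
    (NotCT.Orders.co2 h) (co2_23 h)

theorem co3 (h : Spor.IsoCo3 S) : Nonempty (G ≃* S) :=
  run T hknown hcard hcs .co3 (n := 495766656000) (p := 23) (ts := [2, 5])
    (l := [(2,10),(3,7),(5,3),(7,1),(11,1),(23,1)]) (by decide) (by decide) (by decide) (by decide) h
    (NotCT.Orders.co3 h) (co3_23 h)

theorem mcl (h : Spor.IsoMcL S) : Nonempty (G ≃* S) :=
  run T hknown hcard hcs .mcl (n := 898128000) (p := 11) (ts := [2, 5, 7])
    (l := [(2,7),(3,6),(5,3),(7,1),(11,1)]) (by decide) (by decide) (by decide) (by decide) h (NotCT.Orders.mcl h)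
    (by obtain ⟨e⟩ := h; exact SC.congr e H647.SpF.McL.sc_eleven)

theorem hs (h : Spor.IsoHS S) : Nonempty (G ≃* S) :=
  run T hknown hcard hcs .hs (n := 44352000) (p := 11) (ts := [2])
    (l := [(2,9),(3,2),(5,3),(7,1),(11,1)]) (by decide) (by decide) (by decide) (by decide) h (NotCT.Orders.hs h)
    (by obtain ⟨e⟩ := h; exact SC.congr e H647.SpF.HS.sc_eleven)

theorem suz (h : Spor.IsoSuz S) : Nonempty (G ≃* S) :=
  run T hknown hcard hcs .suz (n := 448345497600) (p := 11) (ts := [2, 5])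
    (l := [(2,13),(3,7),(5,2),(7,1),(11,1),(13,1)]) (by decide) (by decide) (by decide) (by decide) h
    (NotCT.Orders.suz h) (by obtain ⟨e⟩ := h; exact SC.congr e suz_11)

theorem he (h : Spor.IsoHe S) : Nonempty (G ≃* S) :=
  run T hknown hcard hcs .he (n := 4030387200) (p := 17) (ts := [2, 7])
    (l := [(2,10),(3,3),(5,2),(7,3),(17,1)]) (by decide) (by decide) (by decide) (by decide) h (NotCT.Orders.he h)
    (by obtain ⟨e⟩ := h; exact SC.congr e he_17)

theorem ru (h : Spor.IsoRu S) : Nonempty (G ≃* S) :=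
  run T hknown hcard hcs .ru (n := 145926144000) (p := 29) (ts := [2])
    (l := [(2,14),(3,3),(5,3),(7,1),(13,1),(29,1)]) (by decide) (by decide) (by decide) (by decide) h
    (NotCT.Orders.ru h) (ru_29 h)

theorem on (h : Spor.IsoON S) : Nonempty (G ≃* S) :=
  run T hknown hcard hcs .on (n := 460815505920) (p := 31) (ts := [2])
    (l := [(2,9),(3,4),(5,1),(7,3),(11,1),(19,1),(31,1)]) (by decide) (by decide) (by decide) (by decide) h
    (NotCT.Orders.on h) (on_31 h)

theorem ly (hK : Cfsg.Agent.H995.CopEngine.AllKnown.{0}) (h : Spor.IsoLy S) : Nonempty (G ≃* S) :=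
  run T hknown hcard hcs .ly (n := 51765179004000000) (p := 67) (ts := [2])
    (l := [(2,8),(3,7),(5,6),(7,1),(11,1),(31,1),(37,1),(67,1)]) (by decide) (by decide) (by decide) (by decide) h
    (NotCT.Orders.ly h) (by obtain ⟨e⟩ := h; exact SC.congr e (Cfsg.Agent.H124.Cop.SCLy.sc hK))

theorem fi22 (h : Spor.IsoFi22 S) : Nonempty (G ≃* S) :=
  run T hknown hcard hcs .fi22 (n := 64561751654400) (p := 13) (ts := [2, 7])
    (l := [(2,17),(3,9),(5,2),(7,1),(11,1),(13,1)]) (by decide) (by decide) (by decide) (by decide) h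
    (NotCT.Orders.fi22 h) (fi22_13 h)

theorem fi23 (h : Spor.IsoFi23 S) : Nonempty (G ≃* S) :=
  run T hknown hcard hcs .fi23 (n := 4089470473293004800) (p := 23) (ts := [2, 13])
    (l := [(2,18),(3,13),(5,2),(7,1),(11,1),(13,1),(17,1),(23,1)]) (by decide) (by decide) (by decide) (by decide) h
    (NotCT.Orders.fi23 h) (fi23_23 h)

theorem fi24 (h : Spor.IsoFi24' S) : Nonempty (G ≃* S) :=
  run T hknown hcard hcs .fi24 (n := 1255205709190661721292800) (p := 29) (ts := [2])
    (l := [(2,21),(3,16),(5,2),(7,3),(11,1),(13,1),(17,1),(23,1),(29,1)]) (by decide) (by decide) (by decide)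
    (by decide) h (NotCT.Orders.fi24 h) (fi24_29' h)

theorem hn (h : Spor.IsoHN S) : Nonempty (G ≃* S) :=
  run T hknown hcard hcs .hn (n := 273030912000000) (p := 19) (ts := [2])
    (l := [(2,14),(3,6),(5,6),(7,1),(11,1),(19,1)]) (by decide) (by decide) (by decide) (by decide) h
    (NotCT.Orders.hn h) (by obtain ⟨e⟩ := h; exact SC.congr e Cfsg.Agent.H94.CopHN.sc_nineteen)

theorem th (h : Spor.IsoTh S) : Nonempty (G ≃* S) :=
  run T hknown hcard hcs .th (n := 90745943887872000) (p := 19) (ts := [2])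
    (l := [(2,15),(3,10),(5,3),(7,2),(13,1),(19,1),(31,1)]) (by decide) (by decide) (by decide) (by decide) h
    (NotCT.Orders.th h) (by obtain ⟨e⟩ := h; exact SC.congr e Cfsg.Agent.H981.SCTh.sc_th)

theorem b (hK : Cfsg.Agent.H995.CopEngine.AllKnown.{0}) (h : Spor.IsoB S) : Nonempty (G ≃* S) :=
  run T hknown hcard hcs .b (n := 4154781481226426191177580544000000) (p := 47) (ts := [2])
    (l := [(2,41),(3,13),(5,6),(7,2),(11,1),(13,1),(17,1),(19,1),(23,1),(31,1),(47,1)]) (by decide) (by decide)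
    (by decide) (by decide) h (NotCT.Orders.b h) (by obtain ⟨e⟩ := h; exact SC.congr e (Cfsg.Agent.H291.SCBaby.sc hK))

theorem m (hK : Cfsg.Agent.H995.CopEngine.AllKnown.{0}) (h : Spor.IsoM S) : Nonempty (G ≃* S) :=
  row T hknown hcard hcs .m chk_m (by norm_num) (by norm_num) (by norm_num) (by decide) h (NotCT.Orders.m h)
    (by obtain ⟨e⟩ := h; exact SC.congr e (Cfsg.Agent.H58.Cop.M.sc_fiftynine hK))

/-- **The sporadic groups.** -/
theorem sporadic (hK : Cfsg.Agent.H995.CopEngine.AllKnown.{0}) (h : IsSporadicGroup S) : Nonempty (G ≃* S) := by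
  rcases h with h | h | h | h | h | h | h | h | h | h | h | h | h | h | h | h | h | h | h | h | h | h | h | h | h | h
  · exact m11 T hknown hcard hcs h
  · exact m12 T hknown hcard hcs h
  · exact m22 T hknown hcard hcs h
  · exact m23 T hknown hcard hcs h
  · exact m24 T hknown hcard hcs h
  · exact j1 T hknown hcard hcs h
  · exact j2 T hknown hcard hcs h
  · exact j3 T hknown hcard hcs h
  · exact j4 T hknown hcard hcs h
  · exact co1 T hknown hcard hcs h
  · exact co2 T hknown hcard hcs h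
  · exact co3 T hknown hcard hcs h
  · exact mcl T hknown hcard hcs h
  · exact hs T hknown hcard hcs h
  · exact suz T hknown hcard hcs h
  · exact he T hknown hcard hcs h
  · exact ru T hknown hcard hcs h
  · exact on T hknown hcard hcs h
  · exact ly T hknown hcard hcs hK h
  · exact fi22 T hknown hcard hcs h
  · exact fi23 T hknown hcard hcs h
  · exact fi24 T hknown hcard hcs h
  · exact hn T hknown hcard hcs h
  · exact th T hknown hcard hcs h
  · exact b T hknown hcard hcs hK h
  · exact m T hknown hcard hcs hK h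

end

end Cfsg.Agent.H805.Cs
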